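import Groth.Agent.LimHomLib.PuExt
import Groth.Agent.NoethApproxLib.Main
import Groth.Agent.QCohLib.FTCrit
import Groth.Agent.QCohLib.Push
import Groth.Agent.QCohLib.Coherent
import Groth.Agent.GrSysLib.Sheaf
import Groth.Agent.ConsLib.ModLoci
import Groth.Agent.RichLib.ModFlatGlobal

/-!
# Every quasi-coherent module of finite type on a qcqs scheme is a quotient of a finitely presented one
-/

set_option autoImplicit false
set_option backward.isDefEq.respectTransparency false
set_option linter.all false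

universe u

open CategoryTheory CategoryTheory.Limits AlgebraicGeometry TopologicalSpace Opposite
open KFlatLib (puSec puSecLE pb)

noncomputable section

namespace LimHomLib

variable {X Y : Scheme.{u}}

/-- Along an affine morphism to a qcqs scheme, a finite type module is a quotient of a pulled-back one. -/
theorem exists_ft_epi_pullback (π : X ⟶ Y) [IsAffineHom π] [CompactSpace Y] [QuasiSeparatedSpace Y]
    (F : X.Modules) [Coh.IsQCoh F] (hF : CohB1.IsFT F) :
    ∃ (G : Y.Modules) (_ : Coh.IsQCoh G) (e : pb π G ⟶ F), CohB1.IsFT G ∧ Epi e := by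
  classical
  choose V hV hxV using fun x : Y => exists_isAffineOpen_mem_and_subset (X := Y) (x := x) (U := ⊤) trivial
  obtain ⟨cov, hcov⟩ := isCompact_univ.elim_finite_subcover (fun x => (V x : Set Y))
    (fun x => (V x).2) (fun x _ => Set.mem_iUnion.mpr ⟨x, (hxV x).1⟩)
  let K : Type u := {x // x ∈ cov}
  choose n g hg using fun k : K =>
    haveI : Module.Finite Γ(X, π ⁻¹ᵁ V k.1) Γ(F, π ⁻¹ᵁ V k.1) :=
      QCohLib.finite_of_isFT hF ((hV k.1).preimage π)
    Module.Finite.exists_fin (R := Γ(X, π ⁻¹ᵁ V k.1)) (M := Γ(F, π ⁻¹ᵁ V k.1))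
  haveI : Coh.IsQCoh ((Scheme.Modules.pushforward π).obj F) := QCohLib.isQCoh_pushforward π F
  let κ : Type u := Σ k : K, ULift.{u} (Fin (n k))
  obtain ⟨G, θ, -, hGq, hG, hθ⟩ := QCohLib.exists_ft_through_finset
    (K := (Scheme.Modules.pushforward π).obj F)
    (Finset.univ : Finset κ) (fun x => V x.1.1) (fun x => hV x.1.1) (fun x => g x.1 x.2.down)
  haveI := hGq
  let e : pb π G ⟶ F := ((Scheme.Modules.pullbackPushforwardAdjunction π).homEquiv _ _).symm θ
  refine ⟨G, hGq, e, hG, ?_⟩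
  refine GrSysLib.epi_of_surjective_on_cover e (fun k : K => π ⁻¹ᵁ V k.1) (fun k => (hV k.1).preimage π)
    (fun x => by
      obtain ⟨y, hy, hxy⟩ := Set.mem_iUnion₂.mp (hcov (Set.mem_univ (π x)))
      exact ⟨⟨y, hy⟩, hxy⟩) fun k => ?_
  let L : Γ(pb π G, π ⁻¹ᵁ V k.1) →ₗ[Γ(X, π ⁻¹ᵁ V k.1)] Γ(F, π ⁻¹ᵁ V k.1) :=
    { toFun := e.app (π ⁻¹ᵁ V k.1), map_add' := map_add _, map_smul' := fun r a => QCohLib.app_smul e (π ⁻¹ᵁ V k.1) r a }
  have hL : LinearMap.range L = ⊤ := top_le_iff.mp <| (hg k).ge.trans <| Submodule.span_le.2 <| by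
    rintro _ ⟨a, rfl⟩
    obtain ⟨z, hz⟩ := hθ ⟨k, ⟨a⟩⟩ (Finset.mem_univ _)
    refine ⟨puSec π z, ?_⟩
    have h1 : ((Scheme.Modules.pullbackPushforwardAdjunction π).homEquiv _ _) e = θ := Equiv.apply_symm_apply _ _
    exact ((homEquiv_app π e (V k.1) z).symm.trans (congrArg (fun φ => Scheme.Modules.Hom.app φ (V k.1) z) h1)).trans hz
  have hs := LinearMap.range_eq_top.1 hL
  exact hs

/-- A finite type module on a qcqs scheme is a quotient of a finitely presented module. -/
theorem exists_fp_epi [CompactSpace X] [QuasiSeparatedSpace X] (F : X.Modules) [Coh.IsQCoh F]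
    (hF : CohB1.IsFT F) : ∃ (P : X.Modules) (_ : Coh.IsQCoh P) (e : P ⟶ F), CohB1.IsFP P ∧ Epi e := by
  obtain ⟨A⟩ := NoethApproxLib.exists_approx X
  obtain ⟨i⟩ := A.nonempty
  haveI : ∀ {a b : A.Jᵒᵖ} (f : a ⟶ b), IsAffineHom (A.D.map f) := fun f => A.affine f
  haveI : IsAffineHom (A.π.app (op i)) := isAffineHom_π_app A.D (Cone.mk X A.π) A.isLimit (op i)
  haveI := A.isLocallyNoetherian (op i)
  haveI : IsNoetherian (A.D.obj (op i)) := ⟨⟩
  obtain ⟨G, hGq, e, hG, he⟩ := exists_ft_epi_pullback (A.π.app (op i)) F hF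
  exact ⟨pb (A.π.app (op i)) G, KFlatLib.isQCoh_pullback _ _, e,
    RichLib.ModFlat.isFP_pullback _ (QCohLib.isFP_of_isCoh G ⟨hGq, hG⟩), he⟩

/-- Along an affine morphism to a qcqs scheme, a finite type module is a quotient of a pulled-back
finitely presented one. -/
theorem exists_fp_epi_pullback (π : X ⟶ Y) [IsAffineHom π] [CompactSpace Y] [QuasiSeparatedSpace Y]
    (F : X.Modules) [Coh.IsQCoh F] (hF : CohB1.IsFT F) :
    ∃ (P : Y.Modules) (_ : Coh.IsQCoh P) (e : pb π P ⟶ F), CohB1.IsFP P ∧ Epi e := by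
  obtain ⟨G, hGq, e, hG, he⟩ := exists_ft_epi_pullback π F hF
  haveI := hGq
  obtain ⟨P, hPq, q, hP, hq⟩ := exists_fp_epi G hG
  haveI := (Scheme.Modules.pullbackPushforwardAdjunction π).leftAdjoint_preservesColimits
  haveI := hq
  haveI := he
  haveI : Epi ((Scheme.Modules.pullback π).map q) := inferInstance
  exact ⟨P, hPq, (Scheme.Modules.pullback π).map q ≫ e, hP, epi_comp _ _⟩

end LimHomLib

end
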