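import Groth.Agent.LimHomLib.Main
import Groth.Agent.LimHomLib.FPQuot
import Groth.Agent.RichLib.InjStage

/-!
# Quotients and finitely presented modules descend to a stage
-/

set_option autoImplicit false
set_option backward.isDefEq.respectTransparency false
set_option linter.all false
set_option maxHeartbeats 1000000

universe u

open CategoryTheory CategoryTheory.Limits AlgebraicGeometry TopologicalSpace Opposite
open KFlatLib (puSec puSecLE pb)

noncomputable section

namespace LimHomLib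

variable {I : Type u} [SmallCategory I] [IsCofiltered I] {D : I ⥤ Scheme.{u}} {c : Cone D} (hc : IsLimit c)
  [∀ (i j : I) (f : i ⟶ j), IsAffineHom (D.map f)]

include hc in
/-- A finitely presented quotient on the limit comes from a stage. -/
theorem exists_quot {i₀ : I} [CompactSpace (D.obj i₀)] [QuasiSeparatedSpace (D.obj i₀)]
    (F₀ : (D.obj i₀).Modules) [Coh.IsQCoh F₀] (hF₀ : CohB1.IsFP F₀) {G : c.pt.Modules} [Coh.IsQCoh G]
    (hG : CohB1.IsFP G) (p : pb (c.π.app i₀) F₀ ⟶ G) [Epi p] :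
    ∃ (φ : Over i₀) (Gj : (D.obj φ.left).Modules) (_ : Coh.IsQCoh Gj) (pj : pb (D.map φ.hom) F₀ ⟶ Gj)
      (e : pb (c.π.app φ.left) Gj ≅ G), CohB1.IsFP Gj ∧ Epi pj ∧
        ((cmp (c.w φ.hom)).app F₀).inv ≫ (Scheme.Modules.pullback (c.π.app φ.left)).map pj ≫ e.hom = p := by
  haveI : IsAffineHom (c.π.app i₀) := isAffineHom_π_app D c hc i₀
  haveI := KFlatLib.isQCoh_pullback (c.π.app i₀) F₀
  haveI : Coh.IsQCoh (kernel p) := QCohLib.isQCoh_kernel p
  have hK : CohB1.IsFT (kernel p) := FlatFunLimLib.isFT_kernel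
    (ConsLib.isFT_pullback _ _ (FlatFunLimLib.isFT_of_isFP' hF₀)) hG p
  obtain ⟨Q, hQq, e₁, hQ, he₁⟩ := exists_fp_epi_pullback (c.π.app i₀) (kernel p) hK
  haveI := hQq
  haveI := he₁
  obtain ⟨φ, hj, hhj⟩ := exists_hom hc Q F₀ hQ (e₁ ≫ kernel.ι p)
  haveI := KFlatLib.isQCoh_pullback (D.map φ.hom) F₀
  haveI := KFlatLib.isQCoh_pullback (D.map φ.hom) Q
  haveI : Coh.IsQCoh (cokernel hj) := QCohLib.isQCoh_cokernel hj
  let π := c.π.app φ.left
  haveI := (Scheme.Modules.pullbackPushforwardAdjunction π).leftAdjoint_preservesColimits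
  haveI := (Scheme.Modules.pullbackPushforwardAdjunction π).left_adjoint_additive
  have hl := isColimitCoforkMapOfIsColimit' (Scheme.Modules.pullback π) (cokernel.condition hj) (cokernelIsCokernel hj)
  let ψF := (cmp (c.w φ.hom)).app F₀
  let ψQ := (cmp (c.w φ.hom)).app Q
  have hw : ψQ.inv ≫ (Scheme.Modules.pullback π).map hj ≫ ψF.hom = e₁ ≫ kernel.ι p := hhj
  have h1 : (Scheme.Modules.pullback π).map hj ≫ ψF.hom ≫ p = 0 := by
    rw [← cancel_epi ψQ.inv, comp_zero, ← Category.assoc ((Scheme.Modules.pullback π).map hj),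
      ← Category.assoc ψQ.inv, hw, Category.assoc, kernel.condition, comp_zero]
  have h2 : kernel.ι p ≫ ψF.inv ≫ (Scheme.Modules.pullback π).map (cokernel.π hj) = 0 := by
    rw [← cancel_epi e₁, comp_zero, ← Category.assoc, ← hw, Category.assoc, Category.assoc,
      Iso.hom_inv_id_assoc, ← Functor.map_comp, cokernel.condition, Functor.map_zero, comp_zero]
  obtain ⟨d, hd⟩ : ∃ d : pb π (cokernel hj) ⟶ G, (Scheme.Modules.pullback π).map (cokernel.π hj) ≫ d = ψF.hom ≫ p :=
    ⟨hl.desc (CokernelCofork.ofπ _ h1), Cofork.IsColimit.π_desc hl⟩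
  have hx := ShortComplex.exact_of_f_is_kernel (ShortComplex.mk (kernel.ι p) p (kernel.condition p)) (kernelIsKernel p)
  haveI : Epi (ShortComplex.mk (kernel.ι p) p (kernel.condition p)).g := inferInstanceAs (Epi p)
  obtain ⟨d', hd'⟩ : ∃ d' : G ⟶ pb π (cokernel hj), p ≫ d' = ψF.inv ≫ (Scheme.Modules.pullback π).map (cokernel.π hj) :=
    ⟨hx.desc _ h2, hx.g_desc _ h2⟩
  haveI : Epi ((Scheme.Modules.pullback π).map (cokernel.π hj)) := inferInstance
  let e : pb π (cokernel hj) ≅ G :=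
    { hom := d
      inv := d'
      hom_inv_id := by
        rw [← cancel_epi ((Scheme.Modules.pullback π).map (cokernel.π hj)), ← Category.assoc, hd, Category.assoc, hd',
          Iso.hom_inv_id_assoc]
        exact (Category.comp_id _).symm
      inv_hom_id := by
        rw [← cancel_epi p, ← Category.assoc, hd', Category.assoc, hd, Iso.inv_hom_id_assoc, Category.comp_id] }
  refine ⟨φ, cokernel hj, inferInstance, cokernel.π hj, e,
    RichLib.InjStage.isFP_cokernel (RichLib.ModFlat.isFP_pullback _ hQ) (RichLib.ModFlat.isFP_pullback _ hF₀) hj,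
    inferInstance, ?_⟩
  show ψF.inv ≫ (Scheme.Modules.pullback π).map (cokernel.π hj) ≫ d = p
  rw [hd, Iso.inv_hom_id_assoc]

include hc in
/-- A finitely presented module on the limit comes from a stage. -/
theorem exists_descend {i₀ : I} [CompactSpace (D.obj i₀)] [QuasiSeparatedSpace (D.obj i₀)]
    (F : c.pt.Modules) [Coh.IsQCoh F] (hF : CohB1.IsFP F) :
    ∃ (φ : Over i₀) (Fi : (D.obj φ.left).Modules), Coh.IsQCoh Fi ∧ CohB1.IsFP Fi ∧
      Nonempty (pb (c.π.app φ.left) Fi ≅ F) := by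
  haveI : IsAffineHom (c.π.app i₀) := isAffineHom_π_app D c hc i₀
  obtain ⟨P, hPq, e, hP, he⟩ := exists_fp_epi_pullback (c.π.app i₀) F (FlatFunLimLib.isFT_of_isFP' hF)
  haveI := hPq
  haveI := he
  obtain ⟨φ, Gj, hq, pj, e', hfp, -, -⟩ := exists_quot hc P hP hF e
  exact ⟨φ, Gj, hq, hfp, ⟨e'⟩⟩

end LimHomLib

end
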