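import Groth.Agent.LimHomLib.PuExt
import Groth.Agent.FlatFunLimLib.Main
import Groth.Agent.ModDescLib.Main
import Groth.Agent.GrSysLib.Sheaf
import Groth.Agent.QCohLib.FTCrit
import Groth.Agent.QCohLib.Push

/-!
# Homomorphisms out of a finitely presented module on a limit come from a stage
-/

set_option autoImplicit false
set_option backward.isDefEq.respectTransparency false
set_option linter.all false

universe u

open CategoryTheory CategoryTheory.Limits AlgebraicGeometry TopologicalSpace Opposite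
open KFlatLib (puSec puSecLE pb)

noncomputable section

namespace LimHomLib

open RichLib.LimBC

variable {X Y : Scheme.{u}}

theorem app_sum {M N : X.Modules} (f : M ⟶ N) (V : X.Opens) {ι : Type*} (s : Finset ι) (g : ι → Γ(M, V)) :
    f.app V (∑ i ∈ s, g i) = ∑ i ∈ s, f.app V (g i) :=
  map_sum (AddMonoidHom.mk' (fun m : Γ(M, V) => f.app V m) (fun a b => map_add _ a b)) g s

/-- Pulled-back sections span, over affine opens. -/
theorem mem_span_puSecLE (g : X ⟶ Y) (M : Y.Modules) [Coh.IsQCoh M] {U : Y.Opens} (hU : IsAffineOpen U)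
    {V : X.Opens} (hV : IsAffineOpen V) (e : V ≤ g ⁻¹ᵁ U) (y : Γ(pb g M, V)) :
    y ∈ Submodule.span Γ(X, V) (Set.range (puSecLE g M e)) := by
  letI : Algebra Γ(Y, U) Γ(X, V) := (g.appLE U V e).hom.toAlgebra
  letI : Module Γ(Y, U) Γ(pb g M, V) := Module.compHom _ (g.appLE U V e).hom
  haveI : IsScalarTower Γ(Y, U) Γ(X, V) Γ(pb g M, V) :=
    IsScalarTower.of_algebraMap_smul fun _ _ => rfl
  let ψ : Γ(M, U) →ₗ[Γ(Y, U)] Γ(pb g M, V) :=
    { toFun := puSecLE g M e
      map_add' := fun a b => map_add (puSecLE g M e) a b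
      map_smul' := fun r x => KFlatLib.puSecLE_smul g M e r x }
  have hb := KFlatLib.isBaseChange_puSec g M hU hV e (fun _ => rfl) ψ (fun _ => rfl)
  exact hb.inductionOn y (fun z => z ∈ Submodule.span Γ(X, V) (Set.range (puSecLE g M e))) (Submodule.zero_mem _)
    (fun n => Submodule.subset_span ⟨n, rfl⟩) (fun r z hz => Submodule.smul_mem _ r hz)
    (fun a b ha hb => Submodule.add_mem _ ha hb)

variable {I : Type u} [SmallCategory I] [IsCofiltered I] {D : I ⥤ Scheme.{u}} {c : Cone D} (hc : IsLimit c)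
  [∀ (i j : I) (f : i ⟶ j), IsAffineHom (D.map f)]

include hc in
/-- Finitely many sections over affine opens of a pullback to the limit come from one stage. -/
theorem exists_lifts {i₀ : I} (G : (D.obj i₀).Modules) [Coh.IsQCoh G] {κ : Type u} [Finite κ]
    (U : κ → (D.obj i₀).Opens) (hU : ∀ x, IsAffineOpen (U x))
    (y : ∀ x, Γ(pb (c.π.app i₀) G, c.π.app i₀ ⁻¹ᵁ U x)) :
    ∃ (φ : Over i₀), ∀ x, ∃ e : Γ(pb (D.map φ.hom) G, D.map φ.hom ⁻¹ᵁ U x),
      ((cmp (c.w φ.hom)).hom.app G).app (c.π.app i₀ ⁻¹ᵁ U x)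
        (puSecLE (c.π.app φ.left) _ (ModDescLib.preimage_le_stage φ (U x)) e) = y x := by
  classical
  haveI := isAffineHom_π_app D c hc i₀
  have hex : ∀ x, ∃ l : Γ(G, U x) →₀ Γ(c.pt, c.π.app i₀ ⁻¹ᵁ U x),
      (l.sum fun n a => a • puSecLE (c.π.app i₀) G le_rfl n) = y x := fun x => by
    have h := mem_span_puSecLE (c.π.app i₀) G (hU x) ((hU x).preimage (c.π.app i₀)) le_rfl (y x)
    exact Finsupp.mem_span_range_iff_exists_finsupp.1 h
  choose l hl using hex
  haveI : ∀ x, Finite {n // n ∈ (l x).support} := fun x => inferInstance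
  obtain ⟨φ, hφ⟩ := exists_stage (I := Over i₀) (ι := Σ x : κ, {n // n ∈ (l x).support})
    (fun p φ => ∃ a : Γ(D.obj φ.left, D.map φ.hom ⁻¹ᵁ U p.1),
      (c.π.app φ.left).appLE (D.map φ.hom ⁻¹ᵁ U p.1) (c.π.app i₀ ⁻¹ᵁ U p.1)
        (ModDescLib.preimage_le_stage φ (U p.1)) a = l p.1 p.2.1)
    (fun p φ ψ f ⟨a, ha⟩ => ⟨(D.map (Over.Hom.left f)).appLE (D.map φ.hom ⁻¹ᵁ U p.1) (D.map ψ.hom ⁻¹ᵁ U p.1)
      (ModDescLib.preimage_le_map f (U p.1)) a, by
        rw [← CommRingCat.comp_apply, Scheme.Hom.appLE_comp_appLE]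
        simp only [c.w]
        exact ha⟩)
    (fun p => ModDescLib.exists_lift_section hc (hU p.1) _)
  refine ⟨φ, fun x => ?_⟩
  choose a ha using fun n : {n // n ∈ (l x).support} => hφ ⟨x, n⟩
  refine ⟨∑ n, a n • puSecLE (D.map φ.hom) G le_rfl n.1, ?_⟩
  refine (congrArg (((cmp (c.w φ.hom)).hom.app G).app (c.π.app i₀ ⁻¹ᵁ U x))
    (map_sum (puSecLE (c.π.app φ.left) _ (ModDescLib.preimage_le_stage φ (U x))) _ _)).trans ?_
  refine (app_sum ((cmp (c.w φ.hom)).hom.app G) _ _ _).trans ?_
  rw [← hl x, Finsupp.sum]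
  refine Eq.trans ?_ (Finset.sum_coe_sort (l x).support _)
  refine Fintype.sum_congr _ _ fun n => ?_
  rw [KFlatLib.puSecLE_smul, QCohLib.app_smul]
  exact congrArg₂ (· • ·) (ha n) (cmp_puSecLE (c.w φ.hom) G le_rfl _ le_rfl n.1)

section beta

variable {W Z T : Scheme.{u}} (s : T ⟶ W) (π : T ⟶ Z) (t : Z ⟶ W) (hs : π ≫ t = s) (G : W.Modules)

/-- The map from sections at a stage to sections on the limit. -/
def beta : (Scheme.Modules.pushforward t).obj (pb t G) ⟶ (Scheme.Modules.pushforward s).obj (pb s G) :=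
  (Scheme.Modules.pullbackPushforwardAdjunction s).homEquiv _ _
    ((cmp hs).inv.app _ ≫ (Scheme.Modules.pullback π).map
      ((Scheme.Modules.pullbackPushforwardAdjunction t).counit.app (pb t G)) ≫ (cmp hs).hom.app G)

theorem counit_puSec (N : Z.Modules) (U : W.Opens) (e : Γ(N, t ⁻¹ᵁ U)) :
    ((Scheme.Modules.pullbackPushforwardAdjunction t).counit.app N).app (t ⁻¹ᵁ U)
      (puSec t (M := (Scheme.Modules.pushforward t).obj N) (U := U) e) = e :=
  congr($(congrArg (fun φ => Scheme.Modules.Hom.app φ U)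
    ((Scheme.Modules.pullbackPushforwardAdjunction t).right_triangle_components N)) e)

theorem cmp_inv_puSec (M : W.Modules) {U : W.Opens} (hle : s ⁻¹ᵁ U ≤ π ⁻¹ᵁ (t ⁻¹ᵁ U)) (m : Γ(M, U)) :
    ((cmp hs).inv.app M).app (s ⁻¹ᵁ U) (puSec s m) = puSecLE π (pb t M) hle (puSec t m) := by
  rw [← puSecLE_rfl s M le_rfl m, ← puSecLE_rfl t M le_rfl m]
  exact cmp_inv_puSecLE hs M le_rfl hle le_rfl m

theorem map_counit_puSec (N : Z.Modules) {U : W.Opens} {V : T.Opens} (hle : V ≤ π ⁻¹ᵁ (t ⁻¹ᵁ U))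
    (e : Γ((Scheme.Modules.pushforward t).obj N, U)) :
    ((Scheme.Modules.pullback π).map ((Scheme.Modules.pullbackPushforwardAdjunction t).counit.app N)).app V
      (puSecLE π _ hle (puSec t e)) = puSecLE π N hle e :=
  (CohCmpLib.puSecLE_natural π ((Scheme.Modules.pullbackPushforwardAdjunction t).counit.app N) hle
    (puSec t e)).trans (congrArg (puSecLE π N hle) (counit_puSec t N U e))

theorem beta_app (U : W.Opens) (hle : s ⁻¹ᵁ U ≤ π ⁻¹ᵁ (t ⁻¹ᵁ U))
    (e : Γ((Scheme.Modules.pushforward t).obj (pb t G), U)) :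
    (beta s π t hs G).app U e = ((cmp hs).hom.app G).app (s ⁻¹ᵁ U) (puSecLE π (pb t G) hle e) := by
  rw [beta]
  refine (homEquiv_app s _ U e).trans ?_
  refine (comp_val _ _ (cmp_inv_puSec s π t hs ((Scheme.Modules.pushforward t).obj (pb t G)) hle e)).trans ?_
  exact comp_val _ _ (map_counit_puSec π t (pb t G) hle e)

end beta

include hc in
/-- The homomorphisms out of a finitely presented module on the limit come from a stage. -/
theorem exists_hom {i₀ : I} [CompactSpace (D.obj i₀)] [QuasiSeparatedSpace (D.obj i₀)]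
    (F G : (D.obj i₀).Modules) [Coh.IsQCoh F] (hF : CohB1.IsFP F) [Coh.IsQCoh G]
    (h : pb (c.π.app i₀) F ⟶ pb (c.π.app i₀) G) :
    ∃ (φ : Over i₀) (hj : pb (D.map φ.hom) F ⟶ pb (D.map φ.hom) G),
      ((cmp (c.w φ.hom)).app F).inv ≫ (Scheme.Modules.pullback (c.π.app φ.left)).map hj ≫
        ((cmp (c.w φ.hom)).app G).hom = h := by
  classical
  have hft := FlatFunLimLib.isFT_of_isFP' hF
  let s := c.π.app i₀
  choose V hV hxV using fun x : D.obj i₀ => exists_isAffineOpen_mem_and_subset (X := D.obj i₀) (x := x) (U := ⊤) trivial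
  obtain ⟨cov, hcov⟩ := isCompact_univ.elim_finite_subcover (fun x => (V x : Set (D.obj i₀)))
    (fun x => (V x).2) (fun x _ => Set.mem_iUnion.mpr ⟨x, (hxV x).1⟩)
  let K : Type u := {x // x ∈ cov}
  choose n g hg using fun k : K =>
    haveI : Module.Finite Γ(D.obj i₀, V k.1) Γ(F, V k.1) := QCohLib.finite_of_isFT hft (hV k.1)
    Module.Finite.exists_fin (R := Γ(D.obj i₀, V k.1)) (M := Γ(F, V k.1))
  let κ : Type u := Σ k : K, ULift.{u} (Fin (n k))
  let U : κ → (D.obj i₀).Opens := fun x => V x.1.1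
  let m : ∀ x : κ, Γ(F, U x) := fun x => g x.1 x.2.down
  obtain ⟨φ, hφ⟩ := exists_lifts hc G U (fun x => hV x.1.1) (fun x => h.app (s ⁻¹ᵁ U x) (puSec s (m x)))
  choose e he using hφ
  let t := D.map φ.hom
  let π := c.π.app φ.left
  have hs : π ≫ t = s := c.w φ.hom
  let h' := (Scheme.Modules.pullbackPushforwardAdjunction s).homEquiv _ _ h
  let β := beta s π t hs G
  haveI : IsAffineHom s := isAffineHom_π_app D c hc i₀
  haveI := KFlatLib.isQCoh_pullback t G
  haveI := KFlatLib.isQCoh_pullback s G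
  haveI : Coh.IsQCoh ((Scheme.Modules.pushforward t).obj (pb t G)) := QCohLib.isQCoh_pushforward t _
  haveI : Coh.IsQCoh ((Scheme.Modules.pushforward s).obj (pb s G)) := QCohLib.isQCoh_pushforward s _
  haveI : Coh.IsQCoh (F ⊞ (Scheme.Modules.pushforward t).obj (pb t G)) := QCohLib.isQCoh_biprod _ _
  let d := biprod.desc h' (-β)
  haveI : Coh.IsQCoh (kernel d) := QCohLib.isQCoh_kernel d
  have hsec : ∀ x : κ, ∃ z : Γ(kernel d, U x),
      (kernel.ι d ≫ biprod.fst).app (U x) z = m x := fun x => by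
    let w := (biprod.inl : F ⟶ F ⊞ (Scheme.Modules.pushforward t).obj (pb t G)).app (U x) (m x) +
      (biprod.inr : (Scheme.Modules.pushforward t).obj (pb t G) ⟶ F ⊞ (Scheme.Modules.pushforward t).obj (pb t G)).app (U x) (e x)
    have hw : d.app (U x) w = 0 := by
      show d.app (U x) (_ + _) = 0
      rw [map_add]
      show (biprod.inl ≫ d).app (U x) (m x) + (biprod.inr ≫ d).app (U x) (e x) = 0
      rw [biprod.inl_desc, biprod.inr_desc]
      show h'.app (U x) (m x) + -(β.app (U x) (e x)) = 0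
      rw [← sub_eq_add_neg, sub_eq_zero]
      exact ((homEquiv_app s h (U x) (m x)).trans (he x).symm).trans
        (beta_app s π t hs G (U x) (ModDescLib.preimage_le_stage φ (U x)) (e x)).symm
    obtain ⟨z, hz⟩ := QCohLib.exists_of_app_eq_zero
      (S := ShortComplex.mk (kernel.ι d) d (kernel.condition d))
      (ShortComplex.exact_of_f_is_kernel _ (kernelIsKernel d)) inferInstance w hw
    refine ⟨z, (comp_val _ _ hz).trans ?_⟩
    show (biprod.fst : F ⊞ (Scheme.Modules.pushforward t).obj (pb t G) ⟶ F).app (U x) (_ + _) = _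
    rw [map_add]
    show (biprod.inl ≫ (biprod.fst : F ⊞ (Scheme.Modules.pushforward t).obj (pb t G) ⟶ F)).app (U x) (m x) +
      (biprod.inr ≫ (biprod.fst : F ⊞ (Scheme.Modules.pushforward t).obj (pb t G) ⟶ F)).app (U x) (e x) = _
    rw [biprod.inl_fst, biprod.inr_fst]
    exact add_zero (m x)
  choose z hz using hsec
  haveI := Fintype.ofFinite κ
  obtain ⟨G₁, jm, -, hG₁q, hG₁, hjm⟩ := QCohLib.exists_ft_through_finset (K := kernel d)
    (Finset.univ : Finset κ) U (fun x => hV x.1.1) z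
  haveI := hG₁q
  let p : G₁ ⟶ F := jm ≫ kernel.ι d ≫ biprod.fst
  let q' : G₁ ⟶ (Scheme.Modules.pushforward t).obj (pb t G) := jm ≫ kernel.ι d ≫ biprod.snd
  have hpq : p ≫ h' = q' ≫ β := by
    have hd : d = biprod.fst ≫ h' + biprod.snd ≫ (-β) := biprod.desc_eq
    have h0 : jm ≫ kernel.ι d ≫ d = 0 := by rw [kernel.condition, comp_zero]
    conv_lhs at h0 => rw [congrArg (kernel.ι d ≫ ·) hd]
    simp only [Preadditive.comp_add, Preadditive.comp_neg] at h0
    rw [← sub_eq_add_neg, sub_eq_zero] at h0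
    simpa [p, q', Category.assoc] using h0
  haveI : Epi p := GrSysLib.epi_of_surjective_on_cover p (fun k : K => V k.1) (fun k => hV k.1)
    (fun x => by
      obtain ⟨y, hy, hxy⟩ := Set.mem_iUnion₂.mp (hcov (Set.mem_univ x))
      exact ⟨⟨y, hy⟩, hxy⟩) fun k => by
    let L : Γ(G₁, V k.1) →ₗ[Γ(D.obj i₀, V k.1)] Γ(F, V k.1) :=
      { toFun := p.app (V k.1), map_add' := map_add _, map_smul' := fun r a => Scheme.Modules.Hom.app_smul p r a }
    have hL : LinearMap.range L = ⊤ := top_le_iff.mp <| (hg k).ge.trans <| Submodule.span_le.2 <| by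
      rintro _ ⟨a, rfl⟩
      obtain ⟨g₁, hg₁⟩ := hjm ⟨k, ⟨a⟩⟩ (Finset.mem_univ _)
      exact ⟨g₁, (comp_val jm (kernel.ι d ≫ biprod.fst) hg₁).trans (hz ⟨k, ⟨a⟩⟩)⟩
    exact LinearMap.range_eq_top.1 hL
  haveI : Coh.IsQCoh (kernel p) := QCohLib.isQCoh_kernel p
  have hK : CohB1.IsFT (kernel p) := FlatFunLimLib.isFT_kernel hG₁ hF p
  let q : pb t G₁ ⟶ pb t G := ((Scheme.Modules.pullbackPushforwardAdjunction t).homEquiv _ _).symm q'
  have key : (Scheme.Modules.pullback π).map q ≫ (cmp hs).hom.app G =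
      (cmp hs).hom.app G₁ ≫ (Scheme.Modules.pullback s).map p ≫ h := by
    have h1 : (Scheme.Modules.pullback s).map p ≫ h =
        ((Scheme.Modules.pullbackPushforwardAdjunction s).homEquiv _ _).symm (q' ≫ β) := by
      rw [Equiv.eq_symm_apply, Adjunction.homEquiv_naturality_left]
      exact hpq
    have h2 : ((Scheme.Modules.pullbackPushforwardAdjunction s).homEquiv _ _).symm (q' ≫ β) =
        (Scheme.Modules.pullback s).map q' ≫ (cmp hs).inv.app _ ≫ (Scheme.Modules.pullback π).map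
          ((Scheme.Modules.pullbackPushforwardAdjunction t).counit.app (pb t G)) ≫ (cmp hs).hom.app G := by
      rw [Adjunction.homEquiv_naturality_left_symm]
      exact congrArg _ (Equiv.symm_apply_apply _ _)
    rw [h1, h2]
    have h3 := (cmp hs).hom.naturality q'
    rw [← Category.assoc ((cmp hs).hom.app G₁), ← h3, Category.assoc, ← Category.assoc ((cmp hs).hom.app _),
      Iso.hom_inv_id_app, Category.id_comp, ← Category.assoc]
    congr 1
    show (Scheme.Modules.pullback π).map q = (Scheme.Modules.pullback π).map ((Scheme.Modules.pullback t).map q') ≫ _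
    rw [← Functor.map_comp]
    exact congrArg _ (Adjunction.homEquiv_counit _ _ _ _)
  haveI := KFlatLib.isQCoh_pullback t (kernel p)
  let u := (Scheme.Modules.pullback t).map (kernel.ι p) ≫ q
  have hu : (Scheme.Modules.pullback π).map u = 0 := by
    rw [← cancel_mono ((cmp hs).hom.app G), Functor.map_comp, Category.assoc, key, zero_comp]
    haveI := (Scheme.Modules.pullbackPushforwardAdjunction s).left_adjoint_additive
    have h3 := (cmp hs).hom.naturality (kernel.ι p)
    refine (Category.assoc _ _ _).symm.trans ((congrArg (· ≫ _) h3).trans ?_)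
    rw [Category.assoc, ← Category.assoc ((Scheme.Modules.pullback s).map (kernel.ι p)), ← Functor.map_comp,
      kernel.condition, Functor.map_zero, zero_comp, comp_zero]
  haveI := (ofStage D c hc i₀).compactSpace_obj φ
  haveI : CompactSpace (D.obj φ.left) := ‹CompactSpace ((ofStage D c hc i₀).D.obj φ)›
  obtain ⟨χ, hχ⟩ := FlatFunLimLib.exists_stage_zero u (ofStage D c hc φ.left) (ConsLib.isFT_pullback t _ hK) hu
  change (Scheme.Modules.pullback (D.map χ.hom)).map u = 0 at hχ
  let b := D.map χ.hom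
  let r := D.map (χ.hom ≫ φ.hom)
  have hbr : b ≫ t = r := (D.map_comp _ _).symm
  let πk := c.π.app χ.left
  have hbπ : πk ≫ b = π := c.w χ.hom
  have hkr : πk ≫ r = s := c.w (χ.hom ≫ φ.hom)
  haveI := (Scheme.Modules.pullbackPushforwardAdjunction r).leftAdjoint_preservesColimits
  haveI := (Scheme.Modules.pullbackPushforwardAdjunction r).left_adjoint_additive
  haveI := (Scheme.Modules.pullbackPushforwardAdjunction πk).leftAdjoint_preservesColimits
  let v : pb r G₁ ⟶ pb r G :=
    (cmp hbr).inv.app G₁ ≫ (Scheme.Modules.pullback b).map q ≫ (cmp hbr).hom.app G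
  have hv : (Scheme.Modules.pullback r).map (kernel.ι p) ≫ v = 0 := by
    have h3 := (cmp hbr).inv.naturality (kernel.ι p)
    refine (Category.assoc _ _ _).symm.trans ((congrArg (· ≫ _) h3).trans ?_)
    rw [Category.assoc, ← Category.assoc ((Scheme.Modules.pullback t ⋙ Scheme.Modules.pullback b).map _)]
    show _ ≫ ((Scheme.Modules.pullback b).map _ ≫ (Scheme.Modules.pullback b).map q) ≫ _ = 0
    rw [← Functor.map_comp, show (Scheme.Modules.pullback b).map ((Scheme.Modules.pullback t).map (kernel.ι p) ≫ q) = 0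
      from hχ, zero_comp, comp_zero]
  have hcol : IsColimit (CokernelCofork.ofπ ((Scheme.Modules.pullback r).map p)
      (by rw [← Functor.map_comp, kernel.condition, Functor.map_zero] :
        (Scheme.Modules.pullback r).map (kernel.ι p) ≫ (Scheme.Modules.pullback r).map p = 0)) := by
    have hx := ShortComplex.exact_of_f_is_kernel
      (ShortComplex.mk (kernel.ι p) p (kernel.condition p)) (kernelIsKernel p)
    haveI : Epi (ShortComplex.mk (kernel.ι p) p (kernel.condition p)).g := inferInstanceAs (Epi p)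
    exact isColimitCoforkMapOfIsColimit' (Scheme.Modules.pullback r) (kernel.condition p) hx.gIsCokernel
  obtain ⟨hk, hhk⟩ : ∃ hk : pb r F ⟶ pb r G, (Scheme.Modules.pullback r).map p ≫ hk = v :=
    ⟨hcol.desc (CokernelCofork.ofπ v hv), Cofork.IsColimit.π_desc hcol⟩
  haveI : Epi ((Scheme.Modules.pullback r).map p) := inferInstance
  refine ⟨Over.mk (χ.hom ≫ φ.hom), hk, ?_⟩
  show (cmp hkr).inv.app F ≫ (Scheme.Modules.pullback πk).map hk ≫ (cmp hkr).hom.app G = h
  rw [← cancel_epi ((cmp hkr).hom.app F), Iso.hom_inv_id_app_assoc,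
    ← cancel_epi ((Scheme.Modules.pullback πk).map ((Scheme.Modules.pullback r).map p)),
    ← cancel_epi ((Scheme.Modules.pullback πk).map ((cmp hbr).hom.app G₁))]
  have hR : (Scheme.Modules.pullback πk).map ((Scheme.Modules.pullback r).map p) ≫ (cmp hkr).hom.app F =
      (cmp hkr).hom.app G₁ ≫ (Scheme.Modules.pullback s).map p := (cmp hkr).hom.naturality p
  have hθ : (Scheme.Modules.pullback πk).map ((Scheme.Modules.pullback b).map q) ≫ (cmp hbπ).hom.app (pb t G) =
      (cmp hbπ).hom.app (pb t G₁) ≫ (Scheme.Modules.pullback π).map q := (cmp hbπ).hom.naturality q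
  have hvq : (cmp hbr).hom.app G₁ ≫ (Scheme.Modules.pullback r).map p ≫ hk =
      (Scheme.Modules.pullback b).map q ≫ (cmp hbr).hom.app G := by
    rw [hhk]
    exact Iso.hom_inv_id_app_assoc _ _ _
  calc _ = (Scheme.Modules.pullback πk).map ((cmp hbr).hom.app G₁ ≫ (Scheme.Modules.pullback r).map p ≫ hk) ≫
          (cmp hkr).hom.app G := by simp only [Functor.map_comp, Category.assoc]
    _ = (Scheme.Modules.pullback πk).map ((Scheme.Modules.pullback b).map q) ≫
          (cmp hbπ).hom.app (pb t G) ≫ (cmp hs).hom.app G := by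
        rw [hvq, Functor.map_comp, Category.assoc, cmp_assoc hbπ hbr hkr hs G]
    _ = (cmp hbπ).hom.app (pb t G₁) ≫ (cmp hs).hom.app G₁ ≫ (Scheme.Modules.pullback s).map p ≫ h := by
        rw [← Category.assoc, hθ, Category.assoc, key]
    _ = _ := by
        rw [← Category.assoc, ← cmp_assoc hbπ hbr hkr hs G₁, Category.assoc]
        simp only [← Category.assoc]
        rw [Category.assoc _ _ ((cmp hkr).hom.app F), hR, ← Category.assoc]

end LimHomLib

end
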