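import Groth.Agent.LimHomLib.Extend
import Groth.Agent.FlatFunLimLib.Main

/-!
# Extension of finitely presented modules from a quasi-compact open
-/

set_option autoImplicit false
set_option backward.isDefEq.respectTransparency false
set_option linter.all false
set_option maxHeartbeats 1000000

universe u

open CategoryTheory CategoryTheory.Limits AlgebraicGeometry TopologicalSpace Opposite

noncomputable section

namespace LimHomLib

variable {X : Scheme.{u}} [CompactSpace X] [QuasiSeparatedSpace X] (U : X.Opens) (hU : IsCompact (U : Set X))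

include hU in
/-- The kernel of an epimorphism onto a module of finite presentation over `U` can be cut down. -/
theorem exists_quot_iso (P : X.Modules) [Coh.IsQCoh P] (hP : CohB1.IsFP P) (H : X.Modules) [Coh.IsQCoh H]
    (v : P ⟶ H) [Epi ((Scheme.Modules.restrictFunctor U.ι).map v)] (hH : CohB1.IsFP (H.restrict U.ι)) :
    ∃ (G : X.Modules) (π : P ⟶ G) (v' : G ⟶ H), Coh.IsQCoh G ∧ CohB1.IsFP G ∧ Epi π ∧ π ≫ v' = v ∧
      IsIso ((Scheme.Modules.restrictFunctor U.ι).map v') := by
  let R := Scheme.Modules.restrictFunctor U.ι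
  haveI := preservesFiniteLimits_restrict U
  haveI := preservesFiniteColimits_restrict U
  haveI : Coh.IsQCoh (R.obj P) := Groth.Agent.PerfDualLib.isQCoh_restrict P U
  haveI : Coh.IsQCoh (R.obj H) := Groth.Agent.PerfDualLib.isQCoh_restrict H U
  haveI : Coh.IsQCoh (kernel v) := QCohLib.isQCoh_kernel v
  haveI : Coh.IsQCoh (kernel (R.map v)) := QCohLib.isQCoh_kernel _
  have hft : CohB1.IsFT (R.obj (kernel v)) := QCohLib.isFT_of_epi (PreservesKernel.iso R v).inv
    (FlatFunLimLib.isFT_kernel (RpushLib.isFT_restrict (FlatFunLimLib.isFT_of_isFP' hP) U) hH (R.map v))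
  obtain ⟨K', j, hKq, hK, hj⟩ := exists_ft_sub U hU (kernel v) hft
  haveI := hKq
  haveI : Coh.IsQCoh (cokernel (j ≫ kernel.ι v)) := QCohLib.isQCoh_cokernel _
  let v' : cokernel (j ≫ kernel.ι v) ⟶ H := cokernel.desc _ v (by rw [Category.assoc, kernel.condition, comp_zero])
  refine ⟨cokernel (j ≫ kernel.ι v), cokernel.π _, v', inferInstance, isFP_cokernel' hK hP _, inferInstance,
    cokernel.π_desc _ _ _, ?_⟩
  show IsIso (R.map v')
  have hfac : R.map (cokernel.π (j ≫ kernel.ι v)) ≫ R.map v' = R.map v := by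
    rw [← R.map_comp, cokernel.π_desc]
  haveI : Epi (R.map (cokernel.π (j ≫ kernel.ι v))) := inferInstance
  haveI : Epi (R.map v') := epi_of_epi_fac hfac
  have hx := ShortComplex.exact_of_f_is_kernel (ShortComplex.mk (kernel.ι v) v (kernel.condition v)) (kernelIsKernel v)
  have hxR := hx.map R
  haveI : Epi ((ShortComplex.mk (kernel.ι v) v (kernel.condition v)).map R).g := inferInstanceAs (Epi (R.map v))
  have hz : R.map (kernel.ι v) ≫ R.map (cokernel.π (j ≫ kernel.ι v)) = 0 := by
    haveI : IsIso (R.map j) := hj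
    rw [← cancel_epi (R.map j), comp_zero, ← R.map_comp, ← R.map_comp, ← Category.assoc, cokernel.condition, R.map_zero]
  obtain ⟨s, hs⟩ : ∃ s : R.obj H ⟶ R.obj (cokernel (j ≫ kernel.ι v)), R.map v ≫ s = R.map (cokernel.π (j ≫ kernel.ι v)) :=
    ⟨hxR.desc _ hz, hxR.g_desc _ hz⟩
  refine ⟨⟨s, ?_, ?_⟩⟩
  · rw [← cancel_epi (R.map (cokernel.π (j ≫ kernel.ι v))), ← Category.assoc, hfac, hs, Category.comp_id]
  · rw [← cancel_epi (R.map v), ← Category.assoc, hs, hfac, Category.comp_id]

include hU in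
/-- A finitely presented module over `U`, with a map, extends. -/
theorem exists_fp_extension (F : X.Modules) [Coh.IsQCoh F] (G : (U : Scheme.{u}).Modules) [Coh.IsQCoh G]
    (hG : CohB1.IsFP G) (φ : G ⟶ F.restrict U.ι) :
    ∃ (G' : X.Modules) (φ' : G' ⟶ F) (e : G'.restrict U.ι ≅ G),
      CohB1.IsFP G' ∧ e.hom ≫ φ = (Scheme.Modules.restrictFunctor U.ι).map φ' := by
  haveI : CompactSpace (U : Scheme.{u}) := isCompact_iff_compactSpace.mp hU
  haveI : QuasiCompact U.ι := quasiCompact_of_compactSpace U.ι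
  obtain ⟨H, ψ, e, hHq, he⟩ := exists_extension U F G φ
  haveI := hHq
  have hHfp : CohB1.IsFP (H.restrict U.ι) := Groth.Agent.PerfLib.isFP_of_iso' e.symm hG
  haveI : Coh.IsQCoh (H.restrict U.ι) := Groth.Agent.PerfDualLib.isQCoh_restrict H U
  obtain ⟨H', j, hq, hft, hj⟩ := exists_ft_sub U hU H (FlatFunLimLib.isFT_of_isFP' hHfp)
  haveI := hq
  obtain ⟨P, hPq, q, hP, hqe⟩ := exists_fp_epi H' hft
  haveI := hPq
  haveI := hqe
  let R := Scheme.Modules.restrictFunctor U.ι
  haveI := preservesFiniteColimits_restrict U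
  haveI : Epi (R.map (q ≫ j)) := by
    haveI : IsIso (R.map j) := hj
    haveI : Epi (R.map q) := inferInstance
    rw [R.map_comp]
    infer_instance
  obtain ⟨G', π, v', hGq, hGfp, -, hfac, hiso⟩ := exists_quot_iso U hU P hP H (q ≫ j) hHfp
  haveI := hiso
  refine ⟨G', v' ≫ ψ, asIso (R.map v') ≪≫ e, hGfp, ?_⟩
  show (R.map v' ≫ e.hom) ≫ φ = R.map (v' ≫ ψ)
  rw [Category.assoc, he, R.map_comp]

end LimHomLib

end
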