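import Groth.Agent.LimHomLib.FPQuot
import Groth.Agent.CohCmpLib.HomLift
import Groth.Agent.DevissLib.Stalk
import Groth.Agent.RichLib.InjStage
import Groth.Agent.PerfLib.FiniteType
import Groth.Agent.OmegaAffLib.StalkCrit

/-!
# Colimit criterion on stalks; cokernels and finite sums of finitely presented modules
-/

set_option autoImplicit false
set_option backward.isDefEq.respectTransparency false
set_option linter.all false

universe u

open CategoryTheory CategoryTheory.Limits AlgebraicGeometry TopologicalSpace Opposite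
open DevissLib (St gm)

noncomputable section

namespace LimHomLib

variable {X : Scheme.{u}}

theorem isFP_cokernel' {F G : X.Modules} [Coh.IsQCoh F] [Coh.IsQCoh G] (hF : CohB1.IsFT F)
    (hG : CohB1.IsFP G) (w : F ⟶ G) : CohB1.IsFP (cokernel w) := by
  haveI : Coh.IsQCoh (cokernel w) := QCohLib.isQCoh_cokernel w
  refine RichLib.IsFPAffine.isFP_of_finitePresentation _ fun x => ?_
  obtain ⟨V, hV, -, hxV, hfG⟩ := FlatLib.exists_finitePresentation_nhd hG (x := x) (U := ⊤) trivial
  haveI := hfG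
  haveI : Module.Finite Γ(X, V) Γ(F, V) := QCohLib.finite_of_isFT hF hV
  refine ⟨V, hV, hxV, Module.finitePresentation_of_surjective (QCohLib.appLin (cokernel.π w) V)
    (RichLib.IsFPAffine.appLin_surjective (cokernel.π w) hV) ?_⟩
  rw [RichLib.IsFPAffine.ker_appLin_cokernel_π w hV, ← Submodule.map_top]
  exact (Module.Finite.fg_top).map _

theorem isFP_biprod {A B : X.Modules} [Coh.IsQCoh A] [Coh.IsQCoh B] (hA : CohB1.IsFP A) (hB : CohB1.IsFP B) :
    CohB1.IsFP (A ⊞ B) := by
  haveI : Coh.IsQCoh (A ⊞ B) := QCohLib.isQCoh_biprod _ _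
  refine RichLib.IsFPAffine.isFP_of_finitePresentation _ fun x => ?_
  obtain ⟨V, hV, -, hxV, hfA, hfB⟩ :=
    RichLib.IsFPAffine.exists_finitePresentation_two hA hB (x := x) (U := ⊤) trivial
  haveI := hfA
  haveI := hfB
  let f := (QCohLib.appLin (biprod.fst : A ⊞ B ⟶ A) V).prod (QCohLib.appLin (biprod.snd : A ⊞ B ⟶ B) V)
  let g := (QCohLib.appLin (biprod.inl : A ⟶ A ⊞ B) V).coprod (QCohLib.appLin (biprod.inr : B ⟶ A ⊞ B) V)
  have hgf : ∀ w, g (f w) = w := fun w =>
    congr_arg (fun φ : A ⊞ B ⟶ A ⊞ B => φ.app V w) biprod.total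
  have hfg : ∀ p, f (g p) = p := fun p => by
    obtain ⟨a, b⟩ := p
    show ((biprod.fst : A ⊞ B ⟶ A).app V ((biprod.inl : A ⟶ A ⊞ B).app V a + (biprod.inr : B ⟶ A ⊞ B).app V b),
      (biprod.snd : A ⊞ B ⟶ B).app V ((biprod.inl : A ⟶ A ⊞ B).app V a + (biprod.inr : B ⟶ A ⊞ B).app V b)) = _
    rw [map_add, map_add]
    show ((biprod.inl ≫ (biprod.fst : A ⊞ B ⟶ A)).app V a + (biprod.inr ≫ (biprod.fst : A ⊞ B ⟶ A)).app V b,
      (biprod.inl ≫ (biprod.snd : A ⊞ B ⟶ B)).app V a + (biprod.inr ≫ (biprod.snd : A ⊞ B ⟶ B)).app V b) = _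
    rw [biprod.inl_fst, biprod.inr_fst, biprod.inl_snd, biprod.inr_snd]
    exact Prod.ext (add_zero a) (zero_add b)
  exact ⟨V, hV, hxV, Module.finitePresentation_of_surjective g (fun w => ⟨f w, hgf w⟩) (by
    rw [show LinearMap.ker g = ⊥ from LinearMap.ker_eq_bot'.2 fun p hp => by rw [← hfg p, hp, map_zero]]
    exact Submodule.fg_bot)⟩

theorem isFP_sigma_fin : ∀ (n : ℕ) (M : Fin n → X.Modules), (∀ i, Coh.IsQCoh (M i)) → (∀ i, CohB1.IsFP (M i)) →
    ∃ (P : X.Modules) (_ : Coh.IsQCoh P) (c : Cofan M) (_ : IsColimit c), c.pt = P ∧ CohB1.IsFP P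
  | 0, M, _, _ => by
    haveI : Coh.IsQCoh (Coh.structureModule X) := QCohLib.isQCoh_unit
    haveI : Coh.IsQCoh (∐ M) := by
      have h0 : IsZero (∐ M) := by
        rw [IsZero.iff_id_eq_zero]
        exact Sigma.hom_ext _ _ fun i => i.elim0
      have hz : IsZero (kernel (𝟙 (Coh.structureModule X))) := by
        rw [IsZero.iff_id_eq_zero, ← cancel_mono (kernel.ι (𝟙 (Coh.structureModule X))), zero_comp, Category.id_comp]
        exact (Category.comp_id _).symm.trans (kernel.condition (𝟙 (Coh.structureModule X)))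
      haveI : Coh.IsQCoh (kernel (𝟙 (Coh.structureModule X))) := QCohLib.isQCoh_kernel _
      exact QCohLib.isQCoh_of_iso (hz.iso h0)
    refine ⟨∐ M, inferInstance, Cofan.mk _ (Sigma.ι M), coproductIsCoproduct M, rfl, ?_⟩
    refine RichLib.IsFPAffine.isFP_of_finitePresentation _ fun x => ?_
    obtain ⟨V, hV, hxV, -⟩ := exists_isAffineOpen_mem_and_subset (X := X) (x := x) (U := ⊤) trivial
    haveI : Subsingleton Γ(∐ M, V) := by
      refine subsingleton_of_forall_eq 0 fun w => ?_
      have h1 : 𝟙 (∐ M) = 0 := Sigma.hom_ext _ _ fun i => i.elim0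
      exact congr_arg (fun φ : ∐ M ⟶ ∐ M => φ.app V w) h1
    exact ⟨V, hV, hxV, inferInstance⟩
  | n + 1, M, hq, h => by
    obtain ⟨P, hP, c, hc, rfl, hfp⟩ := isFP_sigma_fin n (fun i => M i.succ) (fun i => hq _) (fun i => h _)
    haveI := hq 0
    haveI := hP
    refine ⟨M 0 ⊞ c.pt, QCohLib.isQCoh_biprod _ _, Cofan.mk _ (Fin.cases biprod.inl fun i => c.inj i ≫ biprod.inr),
      ?_, rfl, isFP_biprod (h 0) hfp⟩
    refine mkCofanColimit _ (fun s => biprod.desc (s.inj 0) (Cofan.IsColimit.desc hc fun i => s.inj i.succ))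
      (fun s j => ?_) (fun s m hm => ?_)
    · refine Fin.cases ?_ (fun i => ?_) j
      · show biprod.inl ≫ _ = _
        rw [biprod.inl_desc]
      · show (c.inj i ≫ biprod.inr) ≫ _ = _
        rw [Category.assoc, biprod.inr_desc, Cofan.IsColimit.fac]
    · refine biprod.hom_ext' _ _ ?_ ?_
      · rw [biprod.inl_desc]; exact hm 0
      · rw [biprod.inr_desc]
        refine Cofan.IsColimit.hom_ext hc _ _ fun i => ?_
        rw [Cofan.IsColimit.fac, ← Category.assoc]
        exact hm i.succ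

/-- A finite coproduct of finitely presented modules is finitely presented. -/
theorem isFP_sigma {ι : Type u} [Finite ι] (M : ι → X.Modules) (hq : ∀ i, Coh.IsQCoh (M i))
    (h : ∀ i, CohB1.IsFP (M i)) : CohB1.IsFP (∐ M) := by
  obtain ⟨n, ⟨e⟩⟩ := Finite.exists_equiv_fin ι
  obtain ⟨P, hP, c, hc, rfl, hfp⟩ := isFP_sigma_fin n (fun i => M (e.symm i)) (fun i => hq _) (fun i => h _)
  haveI : Coh.IsQCoh (∐ M) := QCohLib.isQCoh_sigma M hq
  exact Groth.Agent.PerfLib.isFP_of_iso' (hc.coconePointUniqueUpToIso (coproductIsCoproduct _) ≪≫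
    Sigma.whiskerEquiv e.symm (fun i => Iso.refl _)) hfp

/-- A cocone of modules is colimiting if it is so on every stalk. -/
theorem isColimit_of_stalk {J : Type u} [SmallCategory J] [IsFiltered J] {D : J ⥤ X.Modules} (c : Cocone D)
    (hs : ∀ (x : X) (y : (St x).obj c.pt), ∃ (j : J) (z : (St x).obj (D.obj j)), ((St x).map (c.ι.app j)).hom z = y)
    (hi : ∀ (x : X) (j : J) (z : (St x).obj (D.obj j)), ((St x).map (c.ι.app j)).hom z = 0 →
      ∃ (j' : J) (a : j ⟶ j'), ((St x).map (D.map a)).hom z = 0) : Nonempty (IsColimit c) := by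
  let q := colimit.desc D c
  have key : ∀ x : X, Function.Bijective ((St x).map q).hom := fun x => by
    haveI : PreservesColimitsOfSize.{u, u} (St x) := inferInstance
    have hq : ∀ j (z : (St x).obj (D.obj j)),
        ((St x).map q).hom (((St x).map (colimit.ι D j)).hom z) = ((St x).map (c.ι.app j)).hom z := fun j z => by
      rw [← colimit.ι_desc c j, Functor.map_comp]
      rfl
    refine ⟨(injective_iff_map_eq_zero _).2 fun w hw => ?_, fun y => ?_⟩
    · obtain ⟨j, z, rfl⟩ := Concrete.isColimit_exists_rep _ (isColimitOfPreserves (St x) (colimit.isColimit D)) w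
      obtain ⟨j', a, ha⟩ := hi x j z ((hq j z).symm.trans hw)
      show ((St x).map (colimit.ι D j)).hom z = 0
      rw [← colimit.w D a, Functor.map_comp]
      exact (congrArg ((St x).map (colimit.ι D j')).hom ha).trans (map_zero _)
    · obtain ⟨j, z, rfl⟩ := hs x y
      exact ⟨_, hq j z⟩
  haveI : Mono q := CohCmpLib.mono_of_stalk_injective fun x => (key x).1
  haveI : Epi q := CohCmpLib.epi_of_stalk_surjective fun x => (key x).2
  haveI : IsIso ((colimit.isColimit D).desc c) := isIso_of_mono_of_epi q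
  exact ⟨IsColimit.ofPointIso (colimit.isColimit D)⟩

/-- An element of a stalk killed by a map is the germ of a section of the kernel over an affine open. -/
theorem exists_kernel_section {A B : X.Modules} (v : A ⟶ B) (x : X) (z : (St x).obj A)
    (hz : ((St x).map v).hom z = 0) :
    ∃ (V : X.affineOpens) (hxV : x ∈ V.1) (k : Γ(kernel v, V.1)), gm A x hxV ((kernel.ι v).app V.1 k) = z := by
  obtain ⟨U, hxU, s, rfl⟩ := DevissLib.exists_gm_eq A x z
  rw [DevissLib.gm_app] at hz
  obtain ⟨W, hxW, i₁, i₂, hW⟩ := TopCat.Presheaf.germ_eq B.presheaf x hxU hxU (v.app U s) 0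
    (hz.trans (map_zero _).symm)
  obtain ⟨V, hV, hxV, hVW⟩ := exists_isAffineOpen_mem_and_subset (X := X) (x := x) (U := W) hxW
  have hle : V ≤ U := fun y hy => i₁.le (hVW hy)
  have h0 : v.app V (A.presheaf.map (homOfLE hle).op s) = 0 := by
    rw [QCohLib.app_map]
    have h1 := congrArg (B.presheaf.map (homOfLE (show V ≤ W from fun _ h => hVW h)).op) hW
    rw [map_zero, map_zero] at h1
    rw [← h1]
    exact (congr($(B.presheaf.map_comp i₁.op (homOfLE (show V ≤ W from fun _ h => hVW h)).op) (v.app U s)) :)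
  obtain ⟨k, hk⟩ := QCohLib.exists_of_app_eq_zero (S := ShortComplex.mk (kernel.ι v) v (kernel.condition v))
    (ShortComplex.exact_of_f_is_kernel _ (kernelIsKernel v)) inferInstance _ h0
  exact ⟨⟨V, hV⟩, hxV, k, (congrArg (gm A x hxV) hk).trans (DevissLib.gm_map A hle x hxV s)⟩

/-- A finite type submodule, covered by a finitely presented module, containing a given section. -/
theorem exists_fp_through [CompactSpace X] [QuasiSeparatedSpace X] (M : X.Modules) [Coh.IsQCoh M]
    (V : X.affineOpens) (k : Γ(M, V.1)) :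
    ∃ (P : X.Modules) (g : P ⟶ M), Coh.IsQCoh P ∧ CohB1.IsFP P ∧ ∃ a : Γ(P, V.1), g.app V.1 a = k := by
  obtain ⟨G, j, -, hGq, hG, hj⟩ := QCohLib.exists_ft_through_finset (K := M)
    (Finset.univ : Finset (ULift.{u} Unit)) (fun _ => V.1) (fun _ => V.2) (fun _ => k)
  haveI := hGq
  obtain ⟨P, hPq, e, hP, he⟩ := exists_fp_epi G hG
  haveI := hPq
  haveI := he
  obtain ⟨b, hb⟩ := hj ⟨()⟩ (Finset.mem_univ _)
  obtain ⟨a, rfl⟩ := OmegaAffLib.surjective_app_of_epi e V.2 b
  exact ⟨P, e ≫ j, hPq, hP, a, hb⟩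

end LimHomLib

end
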