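import Groth.Agent.CohCmpLib.PullOnComp
import Groth.Agent.MiscFlat6.SectionDescent

/-!
# Maps out of iterated pullbacks, tested on pulled-back sections
-/

set_option autoImplicit false
set_option backward.isDefEq.respectTransparency false
set_option linter.all false

universe u

open CategoryTheory CategoryTheory.Limits AlgebraicGeometry TopologicalSpace Opposite
open KFlatLib (puSec puSecLE pb)

noncomputable section

namespace LimHomLib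

variable {X Y Z W : Scheme.{u}}

theorem puSecLE_rfl (g : X ⟶ Y) (M : Y.Modules) {U : Y.Opens} (h : g ⁻¹ᵁ U ≤ g ⁻¹ᵁ U) (m : Γ(M, U)) :
    puSecLE g M h m = puSec g m := by
  rw [KFlatLib.puSecLE_apply]
  have : (homOfLE h).op = 𝟙 (op (g ⁻¹ᵁ U)) := rfl
  rw [this, CategoryTheory.Functor.map_id]
  rfl

theorem homEquiv_app (g : X ⟶ Y) {M : Y.Modules} {N : X.Modules} (a : pb g M ⟶ N) (U : Y.Opens) (m : Γ(M, U)) :
    ((Scheme.Modules.pullbackPushforwardAdjunction g).homEquiv _ _ a).app U m = a.app (g ⁻¹ᵁ U) (puSec g m) := by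
  rw [Adjunction.homEquiv_unit]
  rfl

/-- Maps out of a pullback agree if they agree on pulled-back sections. -/
theorem ext₁ (g : X ⟶ Y) {M : Y.Modules} {N : X.Modules} {α β : pb g M ⟶ N}
    (H : ∀ (U : Y.Opens) (m : Γ(M, U)), α.app (g ⁻¹ᵁ U) (puSec g m) = β.app (g ⁻¹ᵁ U) (puSec g m)) : α = β := by
  refine ((Scheme.Modules.pullbackPushforwardAdjunction g).homEquiv _ _).injective
    (Scheme.Modules.hom_ext _ _ fun U => ?_)
  ext m
  rw [homEquiv_app, homEquiv_app]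
  exact H U m

/-- Maps out of a double pullback agree if they agree on pulled-back sections. -/
theorem ext₂ (a : X ⟶ Y) (b : Y ⟶ Z) {M : Z.Modules} {N : X.Modules} {α β : pb a (pb b M) ⟶ N}
    (H : ∀ (U : Z.Opens) (m : Γ(M, U)), α.app (a ⁻¹ᵁ (b ⁻¹ᵁ U)) (puSec a (puSec b m)) =
      β.app (a ⁻¹ᵁ (b ⁻¹ᵁ U)) (puSec a (puSec b m))) : α = β :=
  ((Scheme.Modules.pullbackPushforwardAdjunction a).homEquiv _ _).injective
    (ext₁ b fun U m => by rw [homEquiv_app, homEquiv_app]; exact H U m)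

/-- Maps out of a triple pullback agree if they agree on pulled-back sections. -/
theorem ext₃ (a : X ⟶ Y) (b : Y ⟶ Z) (c : Z ⟶ W) {M : W.Modules} {N : X.Modules}
    {α β : pb a (pb b (pb c M)) ⟶ N}
    (H : ∀ (U : W.Opens) (m : Γ(M, U)), α.app (a ⁻¹ᵁ (b ⁻¹ᵁ (c ⁻¹ᵁ U))) (puSec a (puSec b (puSec c m))) =
      β.app (a ⁻¹ᵁ (b ⁻¹ᵁ (c ⁻¹ᵁ U))) (puSec a (puSec b (puSec c m)))) : α = β :=
  ((Scheme.Modules.pullbackPushforwardAdjunction a).homEquiv _ _).injective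
    (ext₂ b c fun U m => by rw [homEquiv_app, homEquiv_app]; exact H U m)

/-- The comparison `a^* b^* M ≅ r^* M` for `a ≫ b = r`. -/
def cmp {a : X ⟶ Y} {b : Y ⟶ Z} {r : X ⟶ Z} (e : a ≫ b = r) :
    Scheme.Modules.pullback b ⋙ Scheme.Modules.pullback a ≅ Scheme.Modules.pullback r :=
  Scheme.Modules.pullbackComp a b ≪≫ Scheme.Modules.pullbackCongr e

theorem cmp_puSecLE {a : X ⟶ Y} {b : Y ⟶ Z} {r : X ⟶ Z} (e : a ≫ b = r) (M : Z.Modules) {U : Z.Opens}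
    {V : Y.Opens} {V' : X.Opens} (hV : V ≤ b ⁻¹ᵁ U) (hV' : V' ≤ a ⁻¹ᵁ V) (h : V' ≤ r ⁻¹ᵁ U) (m : Γ(M, U)) :
    ((cmp e).hom.app M).app V' (puSecLE a _ hV' (puSecLE b M hV m)) = puSecLE r M h m := by
  subst e
  show ((Scheme.Modules.pullbackCongr rfl).hom.app M).app V'
    (((Scheme.Modules.pullbackComp a b).hom.app M).app V' (puSecLE a _ hV' (puSecLE b M hV m))) = _
  rw [CohCmpLib.pullbackComp_puSecLE a b M m hV hV']
  exact CohCmpLib.pullbackCongr_puSec rfl M m _ h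

theorem cmp_inv_puSecLE {a : X ⟶ Y} {b : Y ⟶ Z} {r : X ⟶ Z} (e : a ≫ b = r) (M : Z.Modules) {U : Z.Opens}
    {V : Y.Opens} {V' : X.Opens} (hV : V ≤ b ⁻¹ᵁ U) (hV' : V' ≤ a ⁻¹ᵁ V) (h : V' ≤ r ⁻¹ᵁ U) (m : Γ(M, U)) :
    ((cmp e).inv.app M).app V' (puSecLE r M h m) = puSecLE a _ hV' (puSecLE b M hV m) := by
  rw [← cmp_puSecLE e M hV hV' h m]
  exact congr($(congrArg (fun φ => Scheme.Modules.Hom.app φ V') ((cmp e).hom_inv_id_app M)) _)

theorem comp_val {M N P : X.Modules} (f : M ⟶ N) (g : N ⟶ P) {V : X.Opens} {x : Γ(M, V)} {y : Γ(N, V)}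
    (hx : f.app V x = y) : (f ≫ g).app V x = g.app V y := by
  subst hx
  rfl

/-- Associativity of the comparisons. -/
theorem cmp_assoc {a : X ⟶ Y} {b : Y ⟶ Z} {c : Z ⟶ W} {p : X ⟶ Z} {q : Y ⟶ W} {r : X ⟶ W}
    (e₁ : a ≫ b = p) (e₂ : b ≫ c = q) (e₃ : a ≫ q = r) (e₄ : p ≫ c = r) (M : W.Modules) :
    (Scheme.Modules.pullback a).map ((cmp e₂).hom.app M) ≫ (cmp e₃).hom.app M =
      (cmp e₁).hom.app ((Scheme.Modules.pullback c).obj M) ≫ (cmp e₄).hom.app M := by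
  refine ext₃ a b c fun U m => ?_
  have h₂ : b ⁻¹ᵁ (c ⁻¹ᵁ U) ≤ q ⁻¹ᵁ U := by rw [← e₂, Scheme.Hom.comp_preimage]
  have h₁ : a ⁻¹ᵁ (b ⁻¹ᵁ (c ⁻¹ᵁ U)) ≤ p ⁻¹ᵁ (c ⁻¹ᵁ U) := by rw [← e₁, Scheme.Hom.comp_preimage]
  have h₃ : a ⁻¹ᵁ (b ⁻¹ᵁ (c ⁻¹ᵁ U)) ≤ r ⁻¹ᵁ U := by rw [← e₃, ← e₂, Scheme.Hom.comp_preimage, Scheme.Hom.comp_preimage]
  have hm : puSec a (puSec b (puSec c m)) = puSecLE a (pb b (pb c M)) le_rfl (puSecLE b (pb c M) le_rfl (puSecLE c M le_rfl m)) :=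
    ((puSecLE_rfl a (pb b (pb c M)) le_rfl _).trans (congrArg (puSec a)
      ((puSecLE_rfl b (pb c M) le_rfl _).trans (congrArg (puSec b) (puSecLE_rfl c M le_rfl m))))).symm
  have hl : ((Scheme.Modules.pullback a).map ((cmp e₂).hom.app M)).app (a ⁻¹ᵁ (b ⁻¹ᵁ (c ⁻¹ᵁ U)))
      (puSec a (puSec b (puSec c m))) = puSecLE a (pb q M) le_rfl (puSecLE q M h₂ m) := by
    rw [hm]
    exact (CohCmpLib.puSecLE_natural a ((cmp e₂).hom.app M) le_rfl _).trans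
      (congrArg (puSecLE a _ le_rfl) (cmp_puSecLE e₂ M le_rfl le_rfl h₂ m))
  have hr : ((cmp e₁).hom.app ((Scheme.Modules.pullback c).obj M)).app (a ⁻¹ᵁ (b ⁻¹ᵁ (c ⁻¹ᵁ U)))
      (puSec a (puSec b (puSec c m))) = puSecLE p (pb c M) h₁ (puSecLE c M le_rfl m) := by
    rw [hm]
    exact cmp_puSecLE e₁ (pb c M) le_rfl le_rfl h₁ (puSecLE c M le_rfl m)
  exact ((comp_val _ _ hl).trans (cmp_puSecLE e₃ M h₂ le_rfl h₃ m)).trans
    ((comp_val _ _ hr).trans (cmp_puSecLE e₄ M le_rfl h₁ h₃ m)).symm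

end LimHomLib

end
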