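import Groth.Agent.LimHomLib.FPColim
import Groth.Agent.CohGenLib.Pro
import Groth.Agent.PerfDualLib.Props
import Groth.Agent.RpushLib.Finite

/-!
# Extension of modules from a quasi-compact open
-/

set_option autoImplicit false
set_option backward.isDefEq.respectTransparency false
set_option linter.all false
set_option maxHeartbeats 1000000

universe u

open CategoryTheory CategoryTheory.Limits AlgebraicGeometry TopologicalSpace Opposite

noncomputable section

namespace LimHomLib

variable {X : Scheme.{u}} (U : X.Opens)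

theorem preservesFiniteLimits_restrict : PreservesFiniteLimits (Scheme.Modules.restrictFunctor U.ι) :=
  haveI := CohGenLib.preservesFiniteLimits_pullback_flat U.ι
  preservesFiniteLimits_of_natIso (Scheme.Modules.restrictFunctorIsoPullback U.ι).symm

theorem preservesFiniteColimits_restrict : PreservesFiniteColimits (Scheme.Modules.restrictFunctor U.ι) :=
  haveI := (Scheme.Modules.restrictAdjunction U.ι).leftAdjoint_preservesColimits
  inferInstance

/-- A module whose restriction is of finite type contains a finite type submodule with the same restriction. -/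
theorem exists_ft_sub [CompactSpace X] [QuasiSeparatedSpace X] (hU : IsCompact (U : Set X))
    (M : X.Modules) [Coh.IsQCoh M] (hM : CohB1.IsFT (M.restrict U.ι)) :
    ∃ (M' : X.Modules) (j : M' ⟶ M), Coh.IsQCoh M' ∧ CohB1.IsFT M' ∧
      IsIso ((Scheme.Modules.restrictFunctor U.ι).map j) := by
  classical
  haveI : CompactSpace (U : Scheme.{u}) := isCompact_iff_compactSpace.mp hU
  haveI : Coh.IsQCoh (M.restrict U.ι) := Groth.Agent.PerfDualLib.isQCoh_restrict M U
  choose V hV hxV using fun x : (U : Scheme.{u}) =>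
    exists_isAffineOpen_mem_and_subset (X := (U : Scheme.{u})) (x := x) (U := ⊤) trivial
  obtain ⟨cov, hcov⟩ := isCompact_univ.elim_finite_subcover (fun x => (V x : Set (U : Scheme.{u})))
    (fun x => (V x).2) (fun x _ => Set.mem_iUnion.mpr ⟨x, (hxV x).1⟩)
  let K : Type u := {x // x ∈ cov}
  choose n g hg using fun k : K =>
    haveI : Module.Finite Γ((U : Scheme.{u}), V k.1) Γ(M.restrict U.ι, V k.1) := QCohLib.finite_of_isFT hM (hV k.1)
    Module.Finite.exists_fin (R := Γ((U : Scheme.{u}), V k.1)) (M := Γ(M.restrict U.ι, V k.1))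
  let κ : Type u := Σ k : K, ULift.{u} (Fin (n k))
  obtain ⟨M', j, hjm, hq, hft, hj⟩ := QCohLib.exists_ft_through_finset (K := M)
    (Finset.univ : Finset κ) (fun x => U.ι ''ᵁ V x.1.1) (fun x => (hV x.1.1).image_of_isOpenImmersion U.ι)
    (fun x => (M.restrictAppIso U.ι (V x.1.1)).hom (g x.1 x.2.down))
  haveI := hjm
  haveI := preservesFiniteLimits_restrict U
  let j' := (Scheme.Modules.restrictFunctor U.ι).map j
  haveI : Mono j' := inferInstance
  haveI : Epi j' := by
    refine GrSysLib.epi_of_surjective_on_cover j' (fun k : K => V k.1) (fun k => hV k.1)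
      (fun x => by
        obtain ⟨y, hy, hxy⟩ := Set.mem_iUnion₂.mp (hcov (Set.mem_univ x))
        exact ⟨⟨y, hy⟩, hxy⟩) fun k => ?_
    let L : Γ(M'.restrict U.ι, V k.1) →ₗ[Γ((U : Scheme.{u}), V k.1)] Γ(M.restrict U.ι, V k.1) :=
      { toFun := j'.app (V k.1), map_add' := map_add _, map_smul' := fun r a => QCohLib.app_smul j' (V k.1) r a }
    have hL : LinearMap.range L = ⊤ := top_le_iff.mp <| (hg k).ge.trans <| Submodule.span_le.2 <| by
      rintro _ ⟨a, rfl⟩
      obtain ⟨z, hz⟩ := hj ⟨k, ⟨a⟩⟩ (Finset.mem_univ _)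
      exact ⟨z, hz⟩
    have hs := LinearMap.range_eq_top.1 hL
    exact hs
  exact ⟨M', j, hq, hft, isIso_of_mono_of_epi j'⟩

/-- Extension of a module with a map. -/
theorem exists_extension [QuasiCompact U.ι] (F : X.Modules) [Coh.IsQCoh F]
    (G : (U : Scheme.{u}).Modules) [Coh.IsQCoh G] (φ : G ⟶ F.restrict U.ι) :
    ∃ (H : X.Modules) (ψ : H ⟶ F) (e : H.restrict U.ι ≅ G),
      Coh.IsQCoh H ∧ e.hom ≫ φ = (Scheme.Modules.restrictFunctor U.ι).map ψ := by
  haveI : Coh.IsQCoh (F.restrict U.ι) := Groth.Agent.PerfDualLib.isQCoh_restrict F U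
  haveI : Coh.IsQCoh ((Scheme.Modules.pushforward U.ι).obj G) := QCohLib.isQCoh_pushforward U.ι G
  haveI : Coh.IsQCoh ((Scheme.Modules.pushforward U.ι).obj (F.restrict U.ι)) := QCohLib.isQCoh_pushforward U.ι _
  let adj := Scheme.Modules.restrictAdjunction U.ι
  let R := Scheme.Modules.restrictFunctor U.ι
  haveI := preservesFiniteLimits_restrict U
  let d : (F ⊞ (Scheme.Modules.pushforward U.ι).obj G) ⟶ (Scheme.Modules.pushforward U.ι).obj (F.restrict U.ι) :=
    biprod.desc (adj.unit.app F) (-(Scheme.Modules.pushforward U.ι).map φ)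
  haveI : Coh.IsQCoh (F ⊞ (Scheme.Modules.pushforward U.ι).obj G) := QCohLib.isQCoh_biprod _ _
  haveI : Coh.IsQCoh (kernel d) := QCohLib.isQCoh_kernel d
  have hd : (kernel.ι d ≫ biprod.fst) ≫ adj.unit.app F =
      (kernel.ι d ≫ biprod.snd) ≫ (Scheme.Modules.pushforward U.ι).map φ := by
    have h0 : kernel.ι d ≫ d = 0 := kernel.condition d
    have hd' : d = biprod.fst ≫ adj.unit.app F + biprod.snd ≫ (-(Scheme.Modules.pushforward U.ι).map φ) := biprod.desc_eq
    conv_lhs at h0 => rw [congrArg (kernel.ι d ≫ ·) hd']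
    simp only [Preadditive.comp_add, Preadditive.comp_neg] at h0
    rw [← sub_eq_add_neg, sub_eq_zero] at h0
    simpa [Category.assoc] using h0
  have sq : IsPullback (kernel.ι d ≫ biprod.fst) (kernel.ι d ≫ biprod.snd) (adj.unit.app F)
      ((Scheme.Modules.pushforward U.ι).map φ) := by
    refine ⟨⟨hd⟩, ⟨PullbackCone.IsLimit.mk _ (fun s => kernel.lift d (biprod.lift s.fst s.snd) (by
      rw [biprod.lift_desc, Preadditive.comp_neg, ← sub_eq_add_neg, sub_eq_zero, s.condition]))
      (fun s => by simp) (fun s => by simp) (fun s m h1 h2 => ?_)⟩⟩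
    refine (cancel_mono (kernel.ι d)).1 (biprod.hom_ext _ _ ?_ ?_)
    · simpa using h1
    · simpa using h2
  have sq' := sq.map R
  haveI : IsIso (R.map (adj.unit.app F)) := by
    haveI : IsIso (adj.counit.app (R.obj F)) := inferInstance
    have ht : R.map (adj.unit.app F) ≫ adj.counit.app (R.obj F) = 𝟙 _ := adj.left_triangle_components F
    haveI : IsIso (R.map (adj.unit.app F) ≫ adj.counit.app (R.obj F)) := by rw [ht]; infer_instance
    exact IsIso.of_isIso_comp_right (R.map (adj.unit.app F)) (adj.counit.app (R.obj F))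
  haveI : IsIso (R.map (kernel.ι d ≫ biprod.snd)) := sq'.isIso_snd_of_isIso
  refine ⟨kernel d, kernel.ι d ≫ biprod.fst,
    asIso (R.map (kernel.ι d ≫ biprod.snd)) ≪≫ asIso (adj.counit.app G), inferInstance, ?_⟩
  show (R.map (kernel.ι d ≫ biprod.snd) ≫ adj.counit.app G) ≫ φ = R.map (kernel.ι d ≫ biprod.fst)
  have hn : adj.counit.app G ≫ φ = R.map ((Scheme.Modules.pushforward U.ι).map φ) ≫ adj.counit.app (R.obj F) :=
    (adj.counit.naturality φ).symm
  rw [Category.assoc, hn, ← Category.assoc, ← sq'.w, Category.assoc]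
  erw [adj.left_triangle_components F]
  rw [Category.comp_id]

end LimHomLib

end
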