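import Groth.Prelude.Def_Formal2
import Groth.Agent.LimHomLib.Complex

/-! The Milnor sequence for a tower of complexes with surjective transition maps. -/

set_option autoImplicit false
set_option linter.style.haveILetI false

universe u

open CategoryTheory Opposite Limits

namespace LimHomLib

theorem compatible_of_succ {F : ℕᵒᵖ ⥤ AddCommGrpCat.{u}} (x : ∀ n, F.obj (op n))
    (hx : ∀ n, F.map (homOfLE (Nat.le_succ n)).op (x (n + 1)) = x n) {a b : ℕᵒᵖ} (f : a ⟶ b) :
    F.map f (x a.unop) = x b.unop := by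
  have h : ∀ (m n : ℕ) (hmn : m ≤ n), F.map (homOfLE hmn).op (x n) = x m := by
    intro m n hmn
    induction n, hmn using Nat.le_induction with
    | base =>
      rw [show (homOfLE (le_refl m)).op = 𝟙 (op m) from Subsingleton.elim _ _, F.map_id]; rfl
    | succ n hmn ih =>
      rw [show (homOfLE (hmn.trans (Nat.le_succ n))).op =
        (homOfLE (Nat.le_succ n)).op ≫ (homOfLE hmn).op from Subsingleton.elim _ _,
        Functor.map_comp_apply, hx, ih]
  rw [← h b.unop a.unop (leOfHom f.unop)]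
  exact congrArg (fun φ => F.map φ (x a.unop)) (Subsingleton.elim _ _)

variable (K : ℕᵒᵖ ⥤ Cx.{u})
  (hK : ∀ (n : ℕ) (q : ℤ), Function.Surjective ((K.map (homOfLE (Nat.le_succ n)).op).f q))

/-- The transition map. -/
noncomputable abbrev trans' (j : ℤ) (n : ℕ) : (K.obj (op (n + 1))).X j ⟶ (K.obj (op n)).X j :=
  (K.map (homOfLE (Nat.le_succ n)).op).f j

include hK in
theorem exists_diff (j : ℤ) (z : ∀ n, (K.obj (op n)).X j) :
    ∃ y : ∀ n, (K.obj (op n)).X j, ∀ n, y n - trans' K j n (y (n + 1)) = z n := by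
  choose σ hσ using fun n => hK n j
  refine ⟨fun n => Nat.rec (motive := fun n => (K.obj (op n)).X j) 0
    (fun n a => σ n (a - z n)) n, fun n => ?_⟩
  show _ - trans' K j n (σ n _) = z n
  rw [hσ]
  abel

theorem exists_term' (j : ℤ) (x : ∀ n, (K.obj (op n)).X j)
    (hx : ∀ n, trans' K j n (x (n + 1)) = x n) :
    ∃ z : (limit K).X j, ∀ n, (limit.π K (op n)).f j z = x n := by
  obtain ⟨z, hz⟩ := exists_term K (fun a => x a.unop)
    (fun f => compatible_of_succ (F := term K j) x hx f)
  exact ⟨z, fun n => hz (op n)⟩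

theorem trans'_π (j : ℤ) (n : ℕ) (z : (limit K).X j) :
    trans' K j n ((limit.π K (op (n + 1))).f j z) = (limit.π K (op n)).f j z := by
  rw [← ConcreteCategory.comp_apply, ← HomologicalComplex.comp_f, limit.w]

theorem d_trans' (i j : ℤ) (n : ℕ) (y : (K.obj (op (n + 1))).X i) :
    trans' K j n ((K.obj (op (n + 1))).d i j y) = (K.obj (op n)).d i j (trans' K i n y) :=
  d_map _ _ _ _

variable {p q : ℤ} (hqp : q + 1 = p)

/-- `h` corresponds to the family of classes `c`. -/
def Rel (c : ∀ n : ℕ, (K.obj (op n)).homology q) (h : (limit K).homology p) : Prop :=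
  ∃ (y : ∀ n, (K.obj (op n)).X q)
    (hy : ∀ n, (K.obj (op n)).d q p (y n - trans' K q n (y (n + 1))) = 0)
    (x : (limit K).X p) (hx : (limit K).d p (p + 1) x = 0),
    (∀ n, cls (K.obj (op n)) hqp (y n - trans' K q n (y (n + 1))) (hy n) = c n) ∧
      (∀ n, (limit.π K (op n)).f p x = (K.obj (op n)).d q p (y n)) ∧ cls (limit K) rfl x hx = h

theorem cls_congr {L : Cx.{u}} {j k : ℤ} (hjk : j + 1 = k) {x y : L.X j} (h : x = y)
    (hx : L.d j k x = 0) (hy : L.d j k y = 0) : cls L hjk x hx = cls L hjk y hy := by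
  subst h; rfl

theorem Rel.sub {c c' : ∀ n : ℕ, (K.obj (op n)).homology q} {h h' : (limit K).homology p}
    (H : Rel K hqp c h) (H' : Rel K hqp c' h') : Rel K hqp (c - c') (h - h') := by
  obtain ⟨y, hy, x, hx, h1, h2, h3⟩ := H
  obtain ⟨y', hy', x', hx', h1', h2', h3'⟩ := H'
  have he : ∀ n, (y - y') n - trans' K q n ((y - y') (n + 1)) =
      (y n - trans' K q n (y (n + 1))) - (y' n - trans' K q n (y' (n + 1))) := fun n => by
    simp only [Pi.sub_apply, map_sub]; abel
  refine ⟨y - y', fun n => by rw [he, map_sub, hy, hy', sub_zero], x - x',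
    by rw [map_sub, hx, hx', sub_zero], fun n => ?_, fun n => ?_, ?_⟩
  · rw [cls_congr hqp (he n) _ (by rw [map_sub, hy, hy', sub_zero]), cls_sub _ hqp _ _ (hy n) (hy' n),
      h1, h1', Pi.sub_apply]
  · rw [map_sub, h2, h2', Pi.sub_apply, map_sub]
  · rw [cls_sub _ rfl _ _ hx hx', h3, h3']

include hK in
theorem Rel.exists (c : ∀ n : ℕ, (K.obj (op n)).homology q) : ∃ h, Rel K hqp c h := by
  choose z hz hzc using fun n => cls_surj (K.obj (op n)) hqp (c n)
  obtain ⟨y, hy⟩ := exists_diff K hK q z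
  have hy' : ∀ n, (K.obj (op n)).d q p (y n - trans' K q n (y (n + 1))) = 0 := fun n => by
    rw [hy]; exact hz n
  obtain ⟨x, hx⟩ := exists_term' K p (fun n => (K.obj (op n)).d q p (y n)) fun n => by
    rw [d_trans']
    have := hy' n
    rw [map_sub, sub_eq_zero] at this
    exact this.symm
  have hx' : (limit K).d p (p + 1) x = 0 := term_ext K fun a => by
    rw [d_map, map_zero]
    show (K.obj (op a.unop)).d p (p + 1) ((limit.π K (op a.unop)).f p x) = 0
    rw [hx, d_d_apply]
  exact ⟨_, y, hy', x, hx', fun n => (cls_congr hqp (hy n) _ (hz n)).trans (hzc n), hx, rfl⟩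

include hK in
theorem Rel.eq_zero {h : (limit K).homology p} (H : Rel K hqp 0 h) : h = 0 := by
  obtain ⟨y, hy, x, hx, h1, h2, rfl⟩ := H
  choose w hw using fun n =>
    (cls_eq_zero_iff (K.obj (op n)) (show q - 1 + 1 = q by omega) hqp _ (hy n)).1 (h1 n)
  obtain ⟨u, hu⟩ := exists_diff K hK (q - 1) w
  obtain ⟨Y, hY⟩ := exists_term' K q (fun n => y n - (K.obj (op n)).d (q - 1) q (u n)) fun n => by
    have := hw n
    rw [← hu n, map_sub, ← d_trans'] at this
    rw [map_sub]
    generalize y n = a, trans' K q n (y (n + 1)) = b,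
      (K.obj (op n)).d (q - 1) q (u n) = c, trans' K q n ((K.obj (op (n + 1))).d (q - 1) q (u (n + 1))) = d at this ⊢
    rw [eq_sub_iff_add_eq] at this ⊢
    rw [← this]
    abel
  refine (cls_eq_zero_iff (limit K) hqp rfl x hx).2 ⟨Y, term_ext K fun a => ?_⟩
  show (limit.π K (op a.unop)).f p _ = (limit.π K (op a.unop)).f p x
  rw [d_map, hY, map_sub, d_d_apply, sub_zero, h2]

theorem Rel.zero_iff {c : ∀ n : ℕ, (K.obj (op n)).homology q} :
    Rel K hqp c 0 ↔ c ∈ (Formal2.towerDiff (fun n => (K.obj (op n)).homology q)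
      (fun n => (HomologicalComplex.homologyMap (K.map (homOfLE (Nat.le_succ n)).op) q).hom)).range := by
  constructor
  · rintro ⟨y, hy, x, hx, h1, h2, h3⟩
    obtain ⟨Y, rfl⟩ := (cls_eq_zero_iff (limit K) hqp rfl x hx).1 h3
    have hv : ∀ n, (K.obj (op n)).d q p (y n - (limit.π K (op n)).f q Y) = 0 := fun n => by
      rw [map_sub, ← h2, d_map, sub_self]
    refine ⟨fun n => cls (K.obj (op n)) hqp _ (hv n), funext fun n => ?_⟩
    show cls (K.obj (op n)) hqp _ (hv n) -
      HomologicalComplex.homologyMap (K.map (homOfLE (Nat.le_succ n)).op) q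
        (cls (K.obj (op (n + 1))) hqp _ (hv (n + 1))) = c n
    rw [cls_map hqp (K.map (homOfLE (Nat.le_succ n)).op), ← cls_sub, ← h1 n]
    refine cls_congr hqp ?_ _ _
    show _ - trans' K q n _ = _
    rw [map_sub, trans'_π]
    abel
  · rintro ⟨b, rfl⟩
    choose v hv hvb using fun n => cls_surj (K.obj (op n)) hqp (b n)
    have hv' : ∀ n, (K.obj (op n)).d q p (v n - trans' K q n (v (n + 1))) = 0 := fun n => by
      rw [map_sub, ← d_trans', hv, hv, map_zero, sub_zero]
    refine ⟨v, hv', 0, map_zero _, fun n => ?_, fun n => by rw [map_zero, hv], ?_⟩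
    · show _ = b n - HomologicalComplex.homologyMap (K.map (homOfLE (Nat.le_succ n)).op) q (b (n + 1))
      rw [← hvb n, ← hvb (n + 1), cls_map hqp (K.map (homOfLE (Nat.le_succ n)).op), ← cls_sub]
    · exact (cls_eq_zero_iff (limit K) hqp rfl 0 (map_zero _)).2 ⟨0, map_zero _⟩

include hK hqp in
theorem milnor :
    Function.Surjective (limit.post K (HomologicalComplex.homologyFunctor _ _ p)) ∧
      Nonempty ((limit.post K (HomologicalComplex.homologyFunctor _ _ p)).hom.ker ≃+
        Formal2.limOne (fun n => (K.obj (op n)).homology q)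
          (fun n => (HomologicalComplex.homologyMap (K.map (homOfLE (Nat.le_succ n)).op) q).hom)) := by
  refine ⟨post_surjective K ⟨Set.univ, Set.countable_univ, fun i => ⟨i, trivial, le_rfl⟩⟩ hqp ?_, ?_⟩
  · rw [isMittagLeffler_nat_iff]
    intro a
    refine ⟨a, le_rfl, fun k hk => ?_⟩
    rintro x -
    induction k, hk using Nat.le_induction with
    | base => exact ⟨x, by
        show (term K q).map (homOfLE _).op x = x
        rw [show (homOfLE (le_refl a)).op = 𝟙 (op a) from Subsingleton.elim _ _, (term K q).map_id]; rfl⟩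
    | succ k hk ih =>
      obtain ⟨z, hz⟩ := ih
      obtain ⟨w, hw⟩ := hK k q z
      refine ⟨w, ?_⟩
      rw [show (homOfLE (le_rfl.trans (hk.trans (Nat.le_succ k)))).op =
        (homOfLE (Nat.le_succ k)).op ≫ (homOfLE hk).op from Subsingleton.elim _ _, (term K q).map_comp]
      show (term K q).map (homOfLE hk).op ((K.map (homOfLE (Nat.le_succ k)).op).f q w) = x
      rw [hw]
      exact hz
  choose Φ hΦ using fun c => Rel.exists K hK hqp c
  have huniq : ∀ c h, Rel K hqp c h → Φ c = h := fun c h H => by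
    have h1 := (hΦ c).sub K hqp H
    rw [sub_self] at h1
    exact sub_eq_zero.1 (Rel.eq_zero K hK hqp h1)
  let Ψ : (∀ n : ℕ, (K.obj (op n)).homology q) →+ (limit K).homology p :=
    AddMonoidHom.ofMapSub Φ fun c c' => huniq _ _ ((hΦ c).sub K hqp (hΦ c'))
  have hker : Ψ.ker = (Formal2.towerDiff (fun n => (K.obj (op n)).homology q)
      (fun n => (HomologicalComplex.homologyMap (K.map (homOfLE (Nat.le_succ n)).op) q).hom)).range := by
    ext c
    rw [← Rel.zero_iff K hqp]
    exact ⟨fun h => (show Φ c = 0 from h) ▸ hΦ c, fun h => huniq c 0 h⟩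
  have hrange : Ψ.range = (limit.post K (HomologicalComplex.homologyFunctor _ _ p)).hom.ker := by
    ext h
    constructor
    · rintro ⟨c, rfl⟩
      obtain ⟨y, hy, x, hx, h1, h2, h3⟩ := hΦ c
      show limit.post K (HomologicalComplex.homologyFunctor _ _ p) (Φ c) = 0
      refine limit_ext (𝟭 AddCommGrpCat.{u}) fun a => ?_
      show limit.π (hom K p) a _ = limit.π (hom K p) a 0
      rw [post_π, ← h3, cls_map rfl (limit.π K a)]
      refine ((cls_eq_zero_iff (K.obj (op a.unop)) hqp rfl _ _).2 ⟨y a.unop, (h2 a.unop).symm⟩).trans ?_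
      exact (map_zero _).symm
    · intro (h0 : limit.post K (HomologicalComplex.homologyFunctor _ _ p) h = 0)
      obtain ⟨x, hx, rfl⟩ := cls_surj (limit K) (rfl : p + 1 = p + 1) h
      have hyex : ∀ n, ∃ y, (K.obj (op n)).d q p y = (limit.π K (op n)).f p x := fun n => by
        refine (cls_eq_zero_iff (K.obj (op n)) hqp rfl _ (by rw [← d_map, hx, map_zero])).1 ?_
        rw [← cls_map rfl (limit.π K (op n)) x hx, ← post_π, h0]
        exact map_zero _
      choose y hy using hyex
      have hz : ∀ n, (K.obj (op n)).d q p (y n - trans' K q n (y (n + 1))) = 0 := fun n => by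
        rw [map_sub, ← d_trans', hy, hy, trans'_π, sub_self]
      exact ⟨fun n => cls (K.obj (op n)) hqp _ (hz n),
        huniq _ _ ⟨y, hz, x, hx, fun n => rfl, fun n => (hy n).symm, rfl⟩⟩
  exact ⟨((QuotientAddGroup.quotientAddEquivOfEq hker.symm).trans
    ((QuotientAddGroup.quotientKerEquivRange Ψ).trans (AddEquiv.addSubgroupCongr hrange))).symm⟩

end LimHomLib
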